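import Mathlib
import Cfsg.Agent.Lib.PReduced.Qd
import Cfsg.Agent.Lib.FGS.CoprimeMod
import Cfsg.Agent.Lib.InvolChar.Basic

/-!
Characteristic subgroups of a Sylow subgroup of `Qd(F)` are never normal.
-/

set_option autoImplicit false

open scoped MatrixGroups

namespace Cfsg.Agent.Lib.PReduced.QdChar

open Cfsg.Agent.Lib.PReduced.Qd Cfsg.Agent.Lib.Classical.SL2Sylow

variable {F : Type*} [Field F]

/-- The unitriangular subgroup. -/
def S₀ (F : Type*) [Field F] : Subgroup (QdG F) := (US F).comap lin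

/-- The unitriangular matrix with parameters `a, x, f`. -/
def ut (a x f : F) : QdG F := mk (upS a) ![x, f]

lemma ut_mem (a x f : F) : ut a x f ∈ S₀ F := by
  change lin (ut a x f) ∈ US F
  rw [ut, lin_mk, mem_US_iff]
  exact ⟨a, rfl⟩

lemma ut_mul (a x f a' x' f' : F) :
    ut a x f * ut a' x' f' = ut (a + a') (x + x' + a * f') (f + f') := by
  rw [ut, ut, mk_mul, ut, upS_add]
  congr 1
  funext i
  fin_cases i
  · simp [Matrix.mulVec, dotProduct, Fin.sum_univ_two, upS]
    ring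
  · simp [Matrix.mulVec, dotProduct, Fin.sum_univ_two, upS]
    ring

lemma e01_ut (a x f : F) : e (ut a x f) 0 1 = a := rfl
lemma e02_ut (a x f : F) : e (ut a x f) 0 2 = x := rfl
lemma e12_ut (a x f : F) : e (ut a x f) 1 2 = f := rfl

lemma exists_ut {M : QdG F} (h : M ∈ S₀ F) : ∃ a x f, M = ut a x f := by
  obtain ⟨a, ha⟩ := mem_US_iff.1 (show lin M ∈ US F from h)
  refine ⟨a, tv M 0, tv M 1, ?_⟩
  apply ext2
  · rw [ut, lin_mk, ha]
  · rw [ut, tv_mk]
    funext i
    fin_cases i <;> rfl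

/-- The automorphism of the unitriangular group interchanging the two "corners". -/
def swapFun (M : S₀ F) : S₀ F :=
  ⟨ut (e M.1 1 2) (e M.1 0 1 * e M.1 1 2 - e M.1 0 2) (e M.1 0 1), ut_mem _ _ _⟩

lemma swapFun_ut (a x f : F) (h : ut a x f ∈ S₀ F) :
    swapFun ⟨ut a x f, h⟩ = ⟨ut f (a * f - x) a, ut_mem _ _ _⟩ := rfl

/-- The automorphism of the unitriangular group interchanging the two "corners". -/
def swapEquiv : S₀ F ≃* S₀ F where
  toFun := swapFun
  invFun := swapFun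
  left_inv := by
    rintro ⟨M, hM⟩
    obtain ⟨a, x, f, rfl⟩ := exists_ut hM
    rw [swapFun_ut, swapFun_ut]
    apply Subtype.ext
    congr 1
    ring_nf
  right_inv := by
    rintro ⟨M, hM⟩
    obtain ⟨a, x, f, rfl⟩ := exists_ut hM
    rw [swapFun_ut, swapFun_ut]
    apply Subtype.ext
    congr 1
    ring_nf
  map_mul' := by
    rintro ⟨M, hM⟩ ⟨N, hN⟩
    obtain ⟨a, x, f, rfl⟩ := exists_ut hM
    obtain ⟨a', x', f', rfl⟩ := exists_ut hN
    have e1 : (⟨ut a x f, hM⟩ : S₀ F) * ⟨ut a' x' f', hN⟩ =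
        ⟨ut (a + a') (x + x' + a * f') (f + f'), ut_mem _ _ _⟩ :=
      Subtype.ext (ut_mul _ _ _ _ _ _)
    rw [e1, swapFun_ut, swapFun_ut, swapFun_ut]
    apply Subtype.ext
    change _ = ut _ _ _ * ut _ _ _
    rw [ut_mul]
    congr 1
    ring_nf

lemma swapEquiv_e01 (M : S₀ F) : e (swapEquiv M).1 0 1 = e M.1 1 2 := rfl

variable {p : ℕ} [Fact p.Prime] [CharP F p]

lemma upS_pow (a : F) (k : ℕ) : (upS a) ^ k = upS ((k : F) * a) := by
  induction k with
  | zero => simp
  | succ k ih =>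
    rw [pow_succ, ih, ← upS_add]
    congr 1
    push_cast
    ring

lemma isPGroup_S₀ : IsPGroup p (S₀ F) := by
  rintro ⟨M, hM⟩
  obtain ⟨a, ha⟩ := mem_US_iff.1 (show lin M ∈ US F from hM)
  have h1 : M ^ p ∈ (lin : QdG F →* SL(2, F)).ker := by
    rw [MonoidHom.mem_ker, map_pow, ← ha, upS_pow, CharP.cast_eq_zero, zero_mul, upS_zero]
  obtain ⟨k, hk⟩ := isPGroup_ker_lin (p := p) ⟨M ^ p, h1⟩
  refine ⟨k + 1, Subtype.ext ?_⟩
  have hk' : (M ^ p) ^ p ^ k = 1 := congrArg Subtype.val hk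
  change M ^ p ^ (k + 1) = 1
  rw [pow_succ', pow_mul, hk']

lemma not_dvd_index_S₀ [Fintype F] : ¬ p ∣ (S₀ F).index := by
  have h1 : (S₀ F).index = (US F).index :=
    Subgroup.index_comap_of_surjective _ lin_surjective
  rw [h1]
  exact (sylowUS (F := F) p).not_dvd_index

omit [CharP F p] [Fact p.Prime] in
lemma mem_normalizer_S₀_iff {M : QdG F} :
    M ∈ Subgroup.normalizer ((S₀ F : Subgroup (QdG F)) : Set (QdG F)) ↔ e M 1 0 = 0 := by
  constructor
  · intro h
    have h1 := (Subgroup.mem_normalizer_iff.1 h (ut 1 0 0)).1 (ut_mem _ _ _)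
    obtain ⟨s, hs⟩ := mem_US_iff.1 (show lin (M * ut 1 0 0 * M⁻¹) ∈ US F from h1)
    have h2 : lin M * upS 1 = upS s * lin M := by
      rw [hs, map_mul, map_mul, map_inv, inv_mul_cancel_right, ut, lin_mk]
    have h3 := entry_eq_zero_of_conj one_ne_zero h2
    rw [lin_apply, linFun_apply] at h3
    exact h3
  · intro h
    have h1 : lin M ∈ BS F := by
      rw [mem_BS_iff, lin_apply, linFun_apply]
      exact h
    have h2 := BS_le_normalizer h1
    rw [Subgroup.mem_normalizer_iff] at h2 ⊢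
    intro N
    have h3 := h2 (lin N)
    change lin N ∈ US F ↔ lin (M * N * M⁻¹) ∈ US F
    rw [map_mul, map_mul, map_inv]
    exact h3

omit [CharP F p] [Fact p.Prime] in
/-- Conjugating a translation. -/
lemma conj_translation (M : QdG F) (v : Fin 2 → F) :
    M * mk 1 v * M⁻¹ = mk 1 (((lin M : SL(2, F)) : Matrix (Fin 2) (Fin 2) F).mulVec v) := by
  rw [mul_inv_eq_iff_eq_mul]
  conv_lhs => rw [← mk_lin_tv M]
  conv_rhs => rw [← mk_lin_tv M]
  rw [mk_mul, mk_mul]
  simp only [lin_mk, tv_mk, mul_one, one_mul, Matrix.SpecialLinearGroup.coe_one, Matrix.one_mulVec]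
  congr 1
  exact add_comm _ _

omit [CharP F p] [Fact p.Prime] in
/-- The core computation. -/
theorem core {T₀ : Subgroup (S₀ F)} (hc : T₀.Characteristic) (hne : T₀ ≠ ⊥) {M : QdG F}
    (hM : M ∈ Subgroup.normalizer ((T₀.map (S₀ F).subtype : Subgroup (QdG F)) : Set (QdG F))) :
    e M 1 0 = 0 := by
  by_contra hc0
  set P : Subgroup (QdG F) := T₀.map (S₀ F).subtype with hP
  have hPS : ∀ t ∈ P, t ∈ S₀ F := by
    rintro _ ⟨t, -, rfl⟩
    exact t.2
  have hconj : ∀ t ∈ P, M * t * M⁻¹ ∈ P := fun t ht =>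
    (Subgroup.mem_normalizer_iff.1 hM t).1 ht
  have h1 : ∀ t ∈ P, e t 0 1 = 0 := by
    intro t ht
    obtain ⟨a, x, f, rfl⟩ := exists_ut (hPS t ht)
    rw [e01_ut]
    by_contra ha
    obtain ⟨s, hs⟩ := mem_US_iff.1 (show lin (M * ut a x f * M⁻¹) ∈ US F from hPS _ (hconj _ ht))
    have h2 : lin M * upS a = upS s * lin M := by
      rw [hs, map_mul, map_mul, map_inv, inv_mul_cancel_right, ut, lin_mk]
    have h3 := entry_eq_zero_of_conj ha h2
    rw [lin_apply, linFun_apply] at h3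
    exact hc0 h3
  have h2 : ∀ t ∈ P, e t 1 2 = 0 := by
    rintro _ ⟨t, ht, rfl⟩
    have h3 : swapEquiv t ∈ T₀ := by
      have := Subgroup.characteristic_iff_comap_eq.1 hc (swapEquiv (F := F))
      rw [← this] at ht
      exact ht
    have h4 := h1 _ ⟨_, h3, rfl⟩
    exact h4
  obtain ⟨⟨t, ht⟩, ht1⟩ := Subgroup.ne_bot_iff_exists_ne_one.1 hne
  have ht' : (t : QdG F) ∈ P := ⟨t, ht, rfl⟩
  have h3 := h1 _ ht'
  have h4 := h2 _ ht'
  obtain ⟨a, x, f, hutt⟩ := exists_ut t.2
  rw [hutt, e01_ut] at h3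
  rw [hutt, e12_ut] at h4
  subst h3 h4
  have hx : x ≠ 0 := by
    rintro rfl
    apply ht1
    apply Subtype.ext
    apply Subtype.ext
    rw [hutt]
    change ut 0 0 0 = 1
    rw [ut, upS_zero, ← mk_one_zero]
    congr 1
    funext i
    fin_cases i <;> rfl
  have h5 := h2 _ (hconj _ ht')
  rw [hutt, ut, upS_zero, conj_translation] at h5
  have h6 : e (mk (1 : SL(2, F)) (((lin M : SL(2, F)) : Matrix (Fin 2) (Fin 2) F).mulVec ![x, 0])) 1 2
      = e M 1 0 * x := by
    change ((lin M : SL(2, F)) : Matrix (Fin 2) (Fin 2) F).mulVec ![x, 0] 1 = _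
    simp only [Matrix.mulVec, dotProduct, Fin.sum_univ_two]
    rw [lin_apply, linFun_apply, linFun_apply]
    simp
  rw [h6] at h5
  exact (mul_ne_zero hc0 hx) h5

section transport

variable {H : Type*} [Group H]

/-- Normalizers and conjugation. -/
lemma mem_normalizer_conj {A A₀ : Subgroup H} {g M : H} (hA : ∀ x, x ∈ A ↔ g⁻¹ * x * g ∈ A₀) :
    M ∈ Subgroup.normalizer (A : Set H) ↔ g⁻¹ * M * g ∈ Subgroup.normalizer (A₀ : Set H) := by
  rw [Subgroup.mem_normalizer_iff, Subgroup.mem_normalizer_iff]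
  constructor
  · intro h x
    have h1 := h (g * x * g⁻¹)
    rw [hA, hA] at h1
    have e1 : g⁻¹ * (g * x * g⁻¹) * g = x := by group
    have e2 : g⁻¹ * (M * (g * x * g⁻¹) * M⁻¹) * g = g⁻¹ * M * g * x * (g⁻¹ * M * g)⁻¹ := by group
    rwa [e1, e2] at h1
  · intro h x
    rw [hA, hA]
    have h1 := h (g⁻¹ * x * g)
    have e2 : g⁻¹ * M * g * (g⁻¹ * x * g) * (g⁻¹ * M * g)⁻¹ = g⁻¹ * (M * x * M⁻¹) * g := by group
    rwa [e2] at h1

/-- Transport of a characteristic subgroup along conjugation. -/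
theorem characteristic_transport {S S₁ : Subgroup H} (ε : S₁ ≃* S) {T : Subgroup S}
    (hT : T.Characteristic) : (T.comap ε.toMonoidHom).Characteristic := by
  rw [Subgroup.characteristic_iff_comap_eq]
  intro φ
  ext x
  have h := Subgroup.characteristic_iff_comap_eq.1 hT (ε.symm.trans (φ.trans ε))
  constructor
  · intro hx
    have hx' : ε (φ x) ∈ T := hx
    have h2 : ε x ∈ T.comap (ε.symm.trans (φ.trans ε)).toMonoidHom := by
      change (ε.symm.trans (φ.trans ε)) (ε x) ∈ T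
      simpa using hx'
    rw [h] at h2
    exact h2
  · intro hx
    have hx' : ε x ∈ T := hx
    rw [← h] at hx'
    have h2 : (ε.symm.trans (φ.trans ε)) (ε x) ∈ T := hx'
    change ε (φ x) ∈ T
    simpa using h2

end transport

/-- The main theorem over a finite field. -/
theorem normalizer_char [Fintype F] (S : Sylow p (QdG F)) (T : Subgroup ↥(S : Subgroup (QdG F)))
    (hT : T ≠ ⊥) (hTc : T.Characteristic) :
    Subgroup.normalizer ((T.map (S : Subgroup (QdG F)).subtype : Subgroup (QdG F)) : Set (QdG F)) =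
        Subgroup.normalizer ((S : Subgroup (QdG F)) : Set (QdG F)) ∧
      Subgroup.normalizer ((S : Subgroup (QdG F)) : Set (QdG F)) ≠ ⊤ := by
  classical
  have : Finite (QdG F) := by
    have h1 : Function.Injective (fun M : QdG F => (lin M, tv M)) := by
      intro M N h
      exact ext2 (congrArg Prod.fst h) (congrArg Prod.snd h)
    exact Finite.of_injective _ h1
  let S₁ : Sylow p (QdG F) := (isPGroup_S₀ (F := F) (p := p)).toSylow not_dvd_index_S₀
  obtain ⟨g, hg⟩ := MulAction.exists_smul_eq (QdG F) S₁ S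
  have hS : ∀ x, x ∈ (S : Subgroup (QdG F)) ↔ g⁻¹ * x * g ∈ S₀ F := by
    intro x
    rw [← hg]
    exact Cfsg.Agent.Lib.InvolChar.Basic.mem_smul_sylow S₁ g x
  let ε : S₀ F ≃* (S : Subgroup (QdG F)) :=
    { toFun := fun x => ⟨g * x * g⁻¹, (hS _).2 (by simpa [mul_assoc] using x.2)⟩
      invFun := fun y => ⟨g⁻¹ * y * g, (hS _).1 y.2⟩
      left_inv := fun x => Subtype.ext (by simp [mul_assoc])
      right_inv := fun y => Subtype.ext (by simp [mul_assoc])
      map_mul' := fun x y => Subtype.ext (by simp [mul_assoc]) }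
  have hεv : ∀ x, ((ε x : (S : Subgroup (QdG F))) : QdG F) = g * x * g⁻¹ := fun _ => rfl
  let T₀ : Subgroup (S₀ F) := T.comap ε.toMonoidHom
  have hT₀c : T₀.Characteristic := characteristic_transport ε hTc
  have hT₀ne : T₀ ≠ ⊥ := by
    obtain ⟨⟨t, ht⟩, ht1⟩ := Subgroup.ne_bot_iff_exists_ne_one.1 hT
    refine Subgroup.ne_bot_iff_exists_ne_one.2 ⟨⟨ε.symm t, ?_⟩, ?_⟩
    · change ε (ε.symm t) ∈ T
      simpa using ht
    · intro h
      apply ht1
      have h2 : ε.symm t = 1 := congrArg Subtype.val h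
      apply Subtype.ext
      have h3 : t = 1 := by
        have := congrArg ε h2
        simpa using this
      exact h3
  have hP : ∀ x, x ∈ (T.map (S : Subgroup (QdG F)).subtype) ↔
      g⁻¹ * x * g ∈ T₀.map (S₀ F).subtype := by
    intro x
    constructor
    · rintro ⟨t, ht, rfl⟩
      refine ⟨ε.symm t, ?_, rfl⟩
      change ε (ε.symm t) ∈ T
      simpa using ht
    · rintro ⟨t, ht, e⟩
      refine ⟨ε t, ht, ?_⟩
      change g * (t : QdG F) * g⁻¹ = x
      have e' : (t : QdG F) = g⁻¹ * x * g := e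
      rw [e']
      group
  constructor
  · apply le_antisymm
    · intro M hM
      rw [mem_normalizer_conj hS, mem_normalizer_S₀_iff]
      exact core hT₀c hT₀ne ((mem_normalizer_conj hP).1 hM)
    · exact Cfsg.Agent.Lib.FGS.CoprimeMod.normalizer_le_normalizer_map _ T
  · intro htop
    let w : SL(2, F) := ⟨!![0, 1; -1, 0], by simp [Matrix.det_fin_two]⟩
    have h1 : g * mk w 0 * g⁻¹ ∈ Subgroup.normalizer ((S : Subgroup (QdG F)) : Set (QdG F)) := by
      rw [htop]
      trivial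
    rw [mem_normalizer_conj hS, mem_normalizer_S₀_iff] at h1
    have e1 : g⁻¹ * (g * mk w 0 * g⁻¹) * g = mk w 0 := by group
    rw [e1] at h1
    have h2 : (-1 : F) = 0 := h1
    exact one_ne_zero (neg_eq_zero.1 h2)

end Cfsg.Agent.Lib.PReduced.QdChar
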