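import Cfsg.Agent.Lib.PReduced.RelNorm
import Cfsg.Agent.Lib.PGroups.Basic
import Cfsg.Agent.Lib.LocalEven.CharP
import Cfsg.Agent.Lib.Core.Basic

/-! Kieler's lemma. -/

set_option autoImplicit false

namespace Cfsg.Agent.Lib.PReduced.Kieler

open Cfsg Subgroup Cfsg.Agent.Lib.PReduced.RelNorm

universe u

variable {X : Type u} [Group X] [Finite X] {p : ℕ} [Fact p.Prime]

omit [Finite X] [Fact p.Prime] in
theorem mem_centralizer_omegaOne_center_iff {Y : Subgroup X} {x : X} :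
    x ∈ centralizer ((omegaOne p (Y ⊓ centralizer (Y : Set X)) : Subgroup X) : Set X) ↔
      ∀ z ∈ Y, (∀ t ∈ Y, t * z = z * t) → z ^ p = 1 → z * x = x * z := by
  rw [Subgroup.mem_centralizer_iff]
  constructor
  · intro h z hz hc hp
    exact h z (mem_omegaOne_center_iff.2 ⟨⟨hz, (Subgroup.mem_centralizer_iff.2 hc)⟩, hp⟩)
  · intro h z hz
    obtain ⟨⟨h1, h2⟩, h3⟩ := mem_omegaOne_center_iff.1 hz
    exact h z h1 (Subgroup.mem_centralizer_iff.1 h2) h3

/-- Kieler's lemma, normal case. -/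
theorem kieler_normal (hchar : centralizer (pCore p X : Set X) ≤ pCore p X) (T : Subgroup X)
    (hT : IsPGroup p T) (hQT : pCore p X ≤ T) (L : Subgroup X) [hLn : L.Normal]
    (hidx : ¬ p ∣ (T ⊓ L).relIndex L) :
    L ⊓ centralizer ((omegaOne p (T ⊓ centralizer (T : Set X)) : Subgroup X) : Set X) =
      L ⊓ centralizer ((omegaOne p ((T ⊓ L) ⊓ centralizer ((T ⊓ L : Subgroup X) : Set X)) :
        Subgroup X) : Set X) := by
  classical
  set Q : Subgroup X := pCore p X with hQdef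
  have hQn : Q.Normal := inferInstance
  set QL : Subgroup X := Q ⊓ L with hQLdef
  have hQLn : QL.Normal := Subgroup.normal_inf_normal _ _
  set R : Subgroup X := T ⊓ L with hRdef
  have hQLR : QL ≤ R := inf_le_inf_right L hQT
  have hRT : R ≤ T := inf_le_left
  have hRL : R ≤ L := inf_le_right
  have hQLT : QL ≤ T := hQLR.trans hRT
  have hQLQ : QL ≤ Q := inf_le_left
  have hpp : p.Prime := Fact.out
  -- `C_L(Q_L) ≤ Q_L`
  have hLc : ∀ x ∈ L, (∀ q ∈ QL, q * x = x * q) → x ∈ QL := by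
    intro x hx h
    have h1 := Cfsg.Agent.Lib.LocalEven.CharP.charP_of_normal hchar L
    have h2 : (pCore p ↥L).map L.subtype = Q ⊓ L :=
      Cfsg.Agent.Lib.Core.Basic.map_pCore_of_isSubnormal hLn.isSubnormal
    have h3 : (⟨x, hx⟩ : L) ∈ centralizer (pCore p ↥L : Set ↥L) := by
      rw [Subgroup.mem_centralizer_iff]
      intro y hy
      apply Subtype.ext
      have : (y : X) ∈ QL := by
        rw [hQLdef, ← h2]
        exact ⟨y, hy, rfl⟩
      exact h _ this
    have h4 := h1 h3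
    rw [hQLdef, ← h2]
    exact ⟨_, h4, rfl⟩
  -- `E = Ω₁(Z(Q_L))`
  set E : Subgroup X := omegaOne p (QL ⊓ centralizer (QL : Set X)) with hEdef
  have hEmem : ∀ {e : X}, e ∈ E ↔ (e ∈ QL ∧ ∀ q ∈ QL, q * e = e * q) ∧ e ^ p = 1 := by
    intro e
    rw [hEdef, mem_omegaOne_center_iff, Subgroup.mem_inf, Subgroup.mem_centralizer_iff]
    rfl
  have hEn : E.Normal := by
    constructor
    intro e he g
    rw [hEmem] at he ⊢
    obtain ⟨⟨h1, h2⟩, h3⟩ := he
    refine ⟨⟨hQLn.conj_mem _ h1 g, fun q hq => ?_⟩, by rw [conj_pow, h3]; simp⟩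
    have hq' : g⁻¹ * q * g ∈ QL := by
      have := hQLn.conj_mem q hq g⁻¹
      simpa using this
    have h4 := h2 _ hq'
    calc q * (g * e * g⁻¹) = g * ((g⁻¹ * q * g) * e) * g⁻¹ := by group
      _ = g * (e * (g⁻¹ * q * g)) * g⁻¹ := by rw [h4]
      _ = _ := by group
  have hEcomm : ∀ a ∈ E, ∀ b ∈ E, a * b = b * a := by
    intro a ha b hb
    exact ((hEmem.1 hb).1.2 a (hEmem.1 ha).1.1)
  have hEc : IsMulCommutative E := ⟨⟨fun a b => Subtype.ext (hEcomm a a.2 b b.2)⟩⟩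
  -- `Z = Ω₁(Z(T))`, `Z₀ = Ω₁(Z(R))`
  set Z : Subgroup X := omegaOne p (T ⊓ centralizer (T : Set X)) with hZdef
  have hZmem : ∀ {y : X}, y ∈ Z ↔ (y ∈ T ∧ ∀ t ∈ T, t * y = y * t) ∧ y ^ p = 1 := by
    intro e
    rw [hZdef, mem_omegaOne_center_iff, Subgroup.mem_inf, Subgroup.mem_centralizer_iff]
    rfl
  set Z₀ : Subgroup X := omegaOne p (R ⊓ centralizer (R : Set X)) with hZ₀def
  have hZ₀mem : ∀ {y : X}, y ∈ Z₀ ↔ (y ∈ R ∧ ∀ t ∈ R, t * y = y * t) ∧ y ^ p = 1 := by
    intro e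
    rw [hZ₀def, mem_omegaOne_center_iff, Subgroup.mem_inf, Subgroup.mem_centralizer_iff]
    rfl
  have hZQ : ∀ y ∈ Z, y ∈ Q := by
    intro y hy
    apply hchar
    rw [Subgroup.mem_centralizer_iff]
    intro q hq
    exact (hZmem.1 hy).1.2 q (hQT hq)
  have hZ₀E : ∀ z ∈ Z₀, z ∈ E := by
    intro z hz
    obtain ⟨⟨h1, h2⟩, h3⟩ := hZ₀mem.1 hz
    refine hEmem.2 ⟨⟨hLc z (hRL h1) fun q hq => h2 q (hQLR hq), fun q hq => h2 q (hQLR hq)⟩, h3⟩
  have hEZ₀ : ∀ e ∈ E, (∀ r ∈ R, r * e = e * r) → e ∈ Z₀ := by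
    intro e he hc
    obtain ⟨⟨h1, _⟩, h3⟩ := hEmem.1 he
    exact hZ₀mem.2 ⟨⟨hQLR h1, hc⟩, h3⟩
  -- indices
  have hidx2 : ∀ {A B : Subgroup X}, R ≤ A → A ≤ B → B ≤ L → ¬ p ∣ A.relIndex B := by
    intro A B h1 h2 h3 hdvd
    apply hidx
    have e1 := Subgroup.relIndex_mul_relIndex R A B h1 h2
    have e2 := Subgroup.relIndex_mul_relIndex R B L (h1.trans h2) h3
    rw [← e2, ← e1]
    exact Dvd.dvd.mul_right (Dvd.dvd.mul_left hdvd _) _
  -- `[a, y] ∈ E`
  have hcomm : ∀ a ∈ L, ∀ y ∈ Z, a * y * a⁻¹ * y⁻¹ ∈ E := by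
    intro a ha y hy
    obtain ⟨⟨hyT, hyc⟩, hyp⟩ := hZmem.1 hy
    have hyQ := hZQ y hy
    have h1 : a * y * a⁻¹ ∈ Q := hQn.conj_mem y hyQ a
    have h2 : a * y * a⁻¹ * y⁻¹ ∈ Q := Q.mul_mem h1 (Q.inv_mem hyQ)
    have h3 : a * y * a⁻¹ * y⁻¹ ∈ L := by
      have := hLn.conj_mem a⁻¹ (L.inv_mem ha) y
      have h := L.mul_mem ha this
      simpa [mul_assoc] using h
    have h4 : a * y * a⁻¹ * y⁻¹ ∈ QL := ⟨h2, h3⟩
    have hcq : ∀ q ∈ QL, q * (a * y * a⁻¹) = (a * y * a⁻¹) * q := by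
      intro q hq
      have hq' : a⁻¹ * q * a ∈ QL := by simpa using hQLn.conj_mem q hq a⁻¹
      have h5 := hyc _ (hQLT hq')
      calc q * (a * y * a⁻¹) = a * ((a⁻¹ * q * a) * y) * a⁻¹ := by group
        _ = a * (y * (a⁻¹ * q * a)) * a⁻¹ := by rw [h5]
        _ = _ := by group
    have hcy : ∀ q ∈ QL, q * y⁻¹ = y⁻¹ * q := by
      intro q hq
      have : Commute q y := hyc q (hQLT hq)
      exact this.inv_right
    refine hEmem.2 ⟨⟨h4, fun q hq => ?_⟩, ?_⟩
    · calc q * (a * y * a⁻¹ * y⁻¹) = (q * (a * y * a⁻¹)) * y⁻¹ := by group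
        _ = (a * y * a⁻¹) * (q * y⁻¹) := by rw [hcq q hq]; group
        _ = (a * y * a⁻¹) * (y⁻¹ * q) := by rw [hcy q hq]
        _ = _ := by group
    · have hc : Commute (a * y * a⁻¹) y⁻¹ := by
        have : Commute (a * y * a⁻¹) y := hyc _ (hQT h1)
        exact this.inv_right
      rw [hc.mul_pow, conj_pow, hyp, inv_pow, hyp]
      simp
  have hZelem : IsElementaryAbelian p Z := by
    refine ⟨⟨⟨fun a b => Subtype.ext ?_⟩⟩, fun a ha => (hZmem.1 ha).2⟩
    exact (hZmem.1 b.2).1.2 a (hZmem.1 a.2).1.1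
  have hEelem : IsElementaryAbelian p E := ⟨hEc, fun a ha => (hEmem.1 ha).2⟩
  have hEZ : ∀ e ∈ E, ∀ y ∈ Z, e * y = y * e := by
    intro e he y hy
    exact (hZmem.1 hy).1.2 e (hQLT (hEmem.1 he).1.1)
  have hM := Cfsg.Agent.Lib.PReduced.Basic.isElementaryAbelian_sup hEn hEelem hZelem hEZ
  set M : Subgroup X := E ⊔ Z with hMdef
  have hMc : IsMulCommutative M := hM.1
  have hLnM : L ≤ normalizer (M : Set X) := by
    intro a ha
    rw [mem_normalizer_iff_map]
    refine Subgroup.eq_of_le_of_card_ge ?_ (Subgroup.card_map_of_injective (H := X) (K := M)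
      (f := (MulAut.conj a).toMonoidHom) (MulAut.conj a).injective).ge
    rw [hMdef, Subgroup.map_sup]
    refine sup_le ?_ ?_
    · rintro _ ⟨e, he, rfl⟩
      exact (le_sup_left : E ≤ E ⊔ Z) (hEn.conj_mem e he a)
    · rintro _ ⟨y, hy, rfl⟩
      have h2 := hcomm a ha y hy
      have e1 : a * y * a⁻¹ = (a * y * a⁻¹ * y⁻¹) * y := by group
      show a * y * a⁻¹ ∈ _
      rw [e1]
      exact Subgroup.mul_mem _ ((le_sup_left : E ≤ E ⊔ Z) h2) ((le_sup_right : Z ≤ E ⊔ Z) hy)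
  have hRcZ₀ : R ≤ centralizer (Z₀ : Set X) := fun r hr =>
    Subgroup.mem_centralizer_iff.2 fun z hz => ((hZ₀mem.1 hz).1.2 r hr).symm
  have claim1 : ∀ a ∈ L, a ∈ centralizer (Z₀ : Set X) → a ∈ centralizer (Z : Set X) := by
    set A₀ : Subgroup X := L ⊓ centralizer (Z₀ : Set X) with hA₀
    have hRA : R ≤ A₀ := le_inf hRL hRcZ₀
    have hA₀M : A₀ ≤ normalizer (M : Set X) := inf_le_left.trans hLnM
    intro a ha hac
    rw [Subgroup.mem_centralizer_iff]
    intro y hy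
    have hyM : y ∈ M := (le_sup_right : Z ≤ E ⊔ Z) hy
    have hyR : ∀ r ∈ R, r * y = y * r := fun r hr => (hZmem.1 hy).1.2 r (hRT hr)
    have hn := relNorm_mem_centralizer hA₀M ⟨y, hyM⟩ hyR
    have hd := relNorm_div_pow_mem (X := R) hA₀M ⟨y, hyM⟩ E (fun r hr => hcomm r hr.1 y hy)
    simp only at hn hd
    set n : X := ((relNorm M A₀ R hA₀M ⟨y, hyM⟩ : M) : X) with hndef
    set m : ℕ := R.relIndex A₀ with hm
    have hcZ₀ : n * (y ^ m)⁻¹ ∈ Z₀ := by
      apply hEZ₀ _ hd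
      intro r hr
      have h1 : r * n = n * r := (Subgroup.mem_centralizer_iff.1 hn) r (hRA hr)
      have h2 : r * (y ^ m)⁻¹ = (y ^ m)⁻¹ * r :=
        Commute.inv_right (Commute.pow_right (show Commute r y from hyR r hr) m)
      calc r * (n * (y ^ m)⁻¹) = (r * n) * (y ^ m)⁻¹ := by group
        _ = n * (r * (y ^ m)⁻¹) := by rw [h1]; group
        _ = n * ((y ^ m)⁻¹ * r) := by rw [h2]
        _ = _ := by group
    have h1 : (n * (y ^ m)⁻¹) * a = a * (n * (y ^ m)⁻¹) :=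
      (Subgroup.mem_centralizer_iff.1 hac) _ hcZ₀
    have h2 : a * n = n * a := (Subgroup.mem_centralizer_iff.1 hn) a ⟨ha, hac⟩
    have h3 : y ^ m ∈ centralizer ({a} : Set X) := by
      rw [Subgroup.mem_centralizer_iff]
      intro w hw
      rw [Set.mem_singleton_iff] at hw
      rw [hw]
      have e : y ^ m = (n * (y ^ m)⁻¹)⁻¹ * n := by group
      rw [e]
      have hc' : Commute a (n * (y ^ m)⁻¹) := h1.symm
      have hn' : Commute a n := h2
      exact hc'.inv_right.mul_right hn'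
    have hcop : (orderOf y).Coprime m := by
      have hord : orderOf y ∣ p := orderOf_dvd_of_pow_eq_one (hZmem.1 hy).2
      have hnd : ¬ p ∣ m := hidx2 le_rfl hRA inf_le_left
      exact Nat.Coprime.coprime_dvd_left hord ((hpp.coprime_iff_not_dvd).2 hnd)
    have h4 := Cfsg.Agent.Lib.PReduced.Basic.mem_of_pow_mem_of_coprime hcop h3
    exact ((Subgroup.mem_centralizer_iff.1 h4) a rfl).symm
  have claim2 : ∀ b ∈ L, b ∈ centralizer (Z : Set X) → b ∈ centralizer (Z₀ : Set X) := by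
    set B₀ : Subgroup X := L ⊓ centralizer (Z : Set X) with hB₀
    set W : Subgroup X := B₀ ⊓ centralizer (Z₀ : Set X) with hW
    have hTcZ : T ≤ centralizer (Z : Set X) := fun t ht =>
      Subgroup.mem_centralizer_iff.2 (fun y hy => ((hZmem.1 hy).1.2 t ht).symm)
    have hRB : R ≤ B₀ := le_inf hRL (hRT.trans hTcZ)
    have hRW : R ≤ W := le_inf hRB hRcZ₀
    have hEtop : ∀ g : X, g ∈ normalizer (E : Set X) := by
      intro g
      rw [Subgroup.normalizer_eq_top_iff.2 hEn]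
      trivial
    have hBE : B₀ ≤ normalizer (E : Set X) := fun g _ => hEtop g
    have hTL : ∀ t ∈ T, t ∈ normalizer (L : Set X) := by
      intro t _
      rw [Subgroup.normalizer_eq_top_iff.2 hLn]
      trivial
    have hTCZ : ∀ t ∈ T, t ∈ normalizer ((centralizer (Z : Set X) : Subgroup X) : Set X) :=
      fun t ht => Subgroup.le_normalizer (hTcZ ht)
    have hTB : ∀ t ∈ T, t ∈ normalizer (B₀ : Set X) := fun t ht =>
      mem_normalizer_inf (hTL t ht) (hTCZ t ht)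
    have hconj : ∀ t ∈ T, ∀ z ∈ Z₀, t * z * t⁻¹ ∈ Z₀ := by
      intro t ht z hz
      obtain ⟨⟨h1, h2⟩, h3⟩ := hZ₀mem.1 hz
      refine hZ₀mem.2 ⟨⟨⟨T.mul_mem (T.mul_mem ht (hRT h1)) (T.inv_mem ht),
        hLn.conj_mem z (hRL h1) t⟩, fun r hr => ?_⟩, by rw [conj_pow, h3]; simp⟩
      have hr' : t⁻¹ * r * t ∈ R :=
        ⟨T.mul_mem (T.mul_mem (T.inv_mem ht) (hRT hr)) ht,
          by simpa using hLn.conj_mem r (hRL hr) t⁻¹⟩
      have h4 := h2 _ hr'
      calc r * (t * z * t⁻¹) = t * ((t⁻¹ * r * t) * z) * t⁻¹ := by group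
        _ = t * (z * (t⁻¹ * r * t)) * t⁻¹ := by rw [h4]
        _ = _ := by group
    have hTZ₀ : ∀ t ∈ T, t ∈ normalizer (Z₀ : Set X) := by
      intro t ht
      exact Cfsg.Agent.Lib.PReduced.Basic.normalizer_of_conj_le (hconj t ht)
        (fun z hz => by simpa using hconj t⁻¹ (T.inv_mem ht) z hz)
    have hTW : ∀ t ∈ T, t ∈ normalizer (W : Set X) := fun t ht =>
      mem_normalizer_inf (hTB t ht) (mem_normalizer_centralizer (hTZ₀ t ht))
    have hvW : ∀ z : E, (z : X) ∈ Z₀ → ∀ x ∈ W, x * (z : X) = z * x := fun z hz x hx =>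
      ((Subgroup.mem_centralizer_iff.1 hx.2) z hz).symm
    have hZ₀Ele : Z₀ ≤ E := hZ₀E
    let ψ : Z₀ →* E := (relNorm E B₀ W hBE).comp (Subgroup.inclusion hZ₀Ele)
    have hψapp : ∀ v : Z₀, ψ v = relNorm E B₀ W hBE ⟨v, hZ₀E v v.2⟩ := fun v => rfl
    have hψinj : Function.Injective ψ := by
      rw [injective_iff_map_eq_one]
      by_contra hne
      push_neg at hne
      obtain ⟨v₀, hv₀, hv₀1⟩ := hne
      let K₀ : Subgroup X := ψ.ker.map Z₀.subtype
      have hK₀mem : ∀ v, v ∈ K₀ ↔ ∃ h : v ∈ Z₀, ψ ⟨v, h⟩ = 1 := by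
        intro v
        constructor
        · rintro ⟨w, hw, rfl⟩
          exact ⟨w.2, hw⟩
        · rintro ⟨h, h1⟩
          exact ⟨⟨v, h⟩, h1, rfl⟩
      have hK₀T : K₀ ≤ T := by
        intro v hv
        obtain ⟨h, _⟩ := (hK₀mem v).1 hv
        exact hRT (hZ₀mem.1 h).1.1
      have hKconj : ∀ t ∈ T, ∀ v ∈ K₀, t * v * t⁻¹ ∈ K₀ := by
        intro t ht v hv
        obtain ⟨h, h1⟩ := (hK₀mem v).1 hv
        refine (hK₀mem _).2 ⟨hconj t ht v h, ?_⟩
        have h2 := relNorm_equivariant hBE t (hEtop t) (hTB t ht) (hTW t ht) ⟨v, hZ₀E v h⟩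
          (hvW ⟨v, hZ₀E v h⟩ h)
        have h3 : ((relNorm E B₀ W hBE ⟨v, hZ₀E v h⟩ : E) : X) = 1 := by
          have := congrArg Subtype.val h1
          rw [hψapp] at this
          simpa using this
        rw [h3] at h2
        simp only [mul_one, mul_inv_cancel] at h2
        apply Subtype.ext
        rw [hψapp]
        exact h2.symm
      let N : Subgroup T := K₀.subgroupOf T
      have hNn : N.Normal := by
        constructor
        intro n hn g
        rw [Subgroup.mem_subgroupOf] at hn ⊢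
        exact hKconj g g.2 _ hn
      have hNne : N ≠ ⊥ := by
        intro hbot
        apply hv₀1
        have hv₀K : (v₀ : X) ∈ K₀ := ⟨v₀, hv₀, rfl⟩
        have h1 : (⟨v₀, hK₀T hv₀K⟩ : T) ∈ N := hv₀K
        rw [hbot, Subgroup.mem_bot] at h1
        apply Subtype.ext
        have h2 := congrArg Subtype.val h1
        exact h2
      obtain ⟨z, hzN, hzc, hzo⟩ :=
        Cfsg.Agent.Lib.PGroups.Basic.exists_central_orderOf_eq hT N hNne
      have hzK : (z : X) ∈ K₀ := hzN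
      obtain ⟨hzZ₀, hzψ⟩ := (hK₀mem _).1 hzK
      have hzp : (z : X) ^ p = 1 := (hZ₀mem.1 hzZ₀).2
      have hzZ : (z : X) ∈ Z := by
        refine hZmem.2 ⟨⟨z.2, fun t ht => ?_⟩, hzp⟩
        have := (Subgroup.mem_center_iff.1 hzc) ⟨t, ht⟩
        exact congrArg Subtype.val this
      have hcen : ∀ r ∈ B₀, r * (z : X) = z * r := fun r hr =>
        ((Subgroup.mem_centralizer_iff.1 hr.2) _ hzZ).symm
      have h5 := relNorm_of_centralized (X := W) hBE ⟨(z : X), hZ₀E _ hzZ₀⟩ hcen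
      rw [hψapp] at hzψ
      rw [hzψ] at h5
      have h6 : (z : X) ^ W.relIndex B₀ = 1 := by
        have := congrArg Subtype.val h5
        simpa using this.symm
      have h7 : orderOf (z : X) = p := by
        rw [Subgroup.orderOf_coe]
        exact hzo
      apply hidx2 hRW inf_le_left inf_le_left
      rw [← h7]
      exact orderOf_dvd_of_pow_eq_one h6
    have hψZ₀ : ∀ v : Z₀, ((ψ v : E) : X) ∈ Z₀ := by
      intro v
      apply hEZ₀ _ (ψ v).2
      intro r hr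
      have := relNorm_mem_centralizer hBE ⟨v, hZ₀E v v.2⟩ (hvW ⟨v, hZ₀E v v.2⟩ v.2)
      exact (Subgroup.mem_centralizer_iff.1 this) r (hRB hr)
    let f : Z₀ → Z₀ := fun v => ⟨(ψ v : E), hψZ₀ v⟩
    have hfinj : Function.Injective f := by
      intro a b h
      apply hψinj
      apply Subtype.ext
      have h2 := congrArg Subtype.val h
      exact h2
    have hfsurj := Finite.injective_iff_surjective.1 hfinj
    intro b hb hbc
    rw [Subgroup.mem_centralizer_iff]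
    intro z hz
    obtain ⟨w, hw⟩ := hfsurj ⟨z, hz⟩
    have h1 := relNorm_mem_centralizer hBE ⟨w, hZ₀E w w.2⟩ (hvW ⟨w, hZ₀E w w.2⟩ w.2)
    have h2 := (Subgroup.mem_centralizer_iff.1 h1) b ⟨hb, hbc⟩
    have h3 : ((relNorm E B₀ W hBE ⟨w, hZ₀E w w.2⟩ : E) : X) = z := by
      have := congrArg Subtype.val hw
      exact this
    rw [h3] at h2
    exact h2.symm
  apply le_antisymm
  · rintro b ⟨hb, hbc⟩
    exact ⟨hb, claim2 b hb hbc⟩
  · rintro a ⟨ha, hac⟩
    exact ⟨ha, claim1 a ha hac⟩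


omit [Finite X] [Fact p.Prime] in
theorem mem_centralizer_omega_subgroupOf {K Y : Subgroup X} (hY : Y ≤ K) (x : K) :
    x ∈ centralizer ((omegaOne p ((Y.subgroupOf K) ⊓ centralizer ((Y.subgroupOf K : Subgroup K) : Set K)) :
      Subgroup K) : Set K) ↔
      (x : X) ∈ centralizer ((omegaOne p (Y ⊓ centralizer (Y : Set X)) : Subgroup X) : Set X) := by
  rw [mem_centralizer_omegaOne_center_iff, mem_centralizer_omegaOne_center_iff]
  constructor
  · intro h z hz hc hzp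
    have h1 := h ⟨z, hY hz⟩ hz (fun t ht => Subtype.ext (hc t ht)) (Subtype.ext (by simpa using hzp))
    exact congrArg Subtype.val h1
  · intro h z hz hc hzp
    apply Subtype.ext
    exact h z hz (fun t ht => congrArg Subtype.val (hc ⟨t, hY ht⟩ ht))
      (by simpa using congrArg Subtype.val hzp)

/-- **Kieler's lemma**. -/
theorem kieler_subnormal (hchar : centralizer (pCore p X : Set X) ≤ pCore p X) (T : Sylow p X)
    {L : Subgroup X} (hL : L.IsSubnormal) :
    ¬ p ∣ ((T : Subgroup X) ⊓ L).relIndex L ∧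
    L ⊓ centralizer ((omegaOne p ((T : Subgroup X) ⊓ centralizer ((T : Subgroup X) : Set X)) :
        Subgroup X) : Set X) =
      L ⊓ centralizer ((omegaOne p (((T : Subgroup X) ⊓ L) ⊓
        centralizer (((T : Subgroup X) ⊓ L : Subgroup X) : Set X)) : Subgroup X) : Set X) := by
  classical
  induction hL with
  | top =>
    rw [inf_top_eq]
    refine ⟨?_, rfl⟩
    rw [Subgroup.relIndex_top_right]
    exact T.not_dvd_index
  | step L K hLK hK hN ih =>
    obtain ⟨ih1, ih2⟩ := ih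
    have hcharK := Cfsg.Agent.Lib.LocalEven.CharP.charP_of_isSubnormal hchar hK
    set T' : Subgroup K := (T : Subgroup X).subgroupOf K with hT'
    set L' : Subgroup K := L.subgroupOf K with hL'
    have hT'p : IsPGroup p T' := T.isPGroup'.comap_of_injective K.subtype K.subtype_injective
    have hQT' : pCore p K ≤ T' := by
      intro x hx
      have h1 : (x : X) ∈ pCore p X :=
        Cfsg.Agent.Lib.Core.Basic.map_pCore_le_of_isSubnormal hK ⟨x, hx, rfl⟩
      exact Cfsg.Agent.Lib.Core.Basic.pCore_le_sylow T h1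
    have hT'idx : ¬ p ∣ T'.index := by
      have e : T'.index = ((T : Subgroup X) ⊓ K).relIndex K := by
        rw [Subgroup.inf_relIndex_right]
        rfl
      rw [e]
      exact ih1
    let S' : Sylow p K := hT'p.toSylow hT'idx
    have hS' : (S' : Subgroup K) = T' := rfl
    have : L'.Normal := hN
    have hinf : T' ⊓ L' = ((T : Subgroup X) ⊓ L).subgroupOf K := by
      ext x
      simp [hT', hL', Subgroup.mem_subgroupOf]
    have h3 := Cfsg.Agent.Lib.PReduced.Basic.not_dvd_relIndex_inf S' L'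
    rw [hS', hinf, hL', Subgroup.relIndex_subgroupOf hLK] at h3
    refine ⟨h3, ?_⟩
    have hinf2 : T' ⊓ L' ≤ T' := inf_le_left
    have h4 := kieler_normal hcharK T' hT'p hQT' L' (by
      rw [hinf, hL', Subgroup.relIndex_subgroupOf hLK]
      exact h3)
    have hY1 : T' = ((T : Subgroup X) ⊓ K).subgroupOf K := by
      ext x
      simp [hT', Subgroup.mem_subgroupOf]
    rw [hinf, hY1] at h4
    have hinfK : (T : Subgroup X) ⊓ L ≤ K := inf_le_right.trans hLK
    ext x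
    constructor
    · rintro ⟨hx, hxc⟩
      have hxK := hLK hx
      refine ⟨hx, ?_⟩
      have h5 : x ∈ K ⊓ centralizer ((omegaOne p ((T : Subgroup X) ⊓ centralizer ((T : Subgroup X) : Set X)) :
        Subgroup X) : Set X) := ⟨hxK, hxc⟩
      rw [ih2] at h5
      have h6 := (mem_centralizer_omega_subgroupOf (p := p) (K := K) (Y := (T : Subgroup X) ⊓ K)
        inf_le_right ⟨x, hxK⟩).2 h5.2
      have h7 : (⟨x, hxK⟩ : K) ∈ L' ⊓ _ := ⟨hx, h6⟩
      rw [h4] at h7
      exact (mem_centralizer_omega_subgroupOf (p := p) (K := K) hinfK ⟨x, hxK⟩).1 h7.2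
    · rintro ⟨hx, hxc⟩
      have hxK := hLK hx
      refine ⟨hx, ?_⟩
      have h6 := (mem_centralizer_omega_subgroupOf (p := p) (K := K) hinfK ⟨x, hxK⟩).2 hxc
      have h7 : (⟨x, hxK⟩ : K) ∈ L' ⊓ _ := ⟨hx, h6⟩
      rw [← h4] at h7
      have h8 := (mem_centralizer_omega_subgroupOf (p := p) (K := K) (Y := (T : Subgroup X) ⊓ K)
        inf_le_right ⟨x, hxK⟩).1 h7.2
      have h5 : x ∈ K ⊓ centralizer ((omegaOne p (((T : Subgroup X) ⊓ K) ⊓
        centralizer (((T : Subgroup X) ⊓ K : Subgroup X) : Set X)) : Subgroup X) : Set X) := ⟨hxK, h8⟩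
      rw [← ih2] at h5
      exact h5.2

end Cfsg.Agent.Lib.PReduced.Kieler
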