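import Cfsg.Agent.Lib.PReduced.RelNorm
import Cfsg.Agent.Lib.Core.Residual
import Cfsg.Agent.Lib.LocalEven.CharP
import Cfsg.Prelude.Def_LocalStructure

/-! The subnormal closure of a subgroup of a finite group. -/

set_option autoImplicit false

namespace Cfsg.Agent.Lib.PReduced.SubnormalClosure

open Cfsg Subgroup

universe u

variable {H : Type u} [Group H] [Finite H]

/-- Every subgroup of a finite nilpotent group is subnormal. -/
theorem isSubnormal_of_isNilpotent {Y : Type*} [Group Y] [Finite Y] [Group.IsNilpotent Y]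
    (S : Subgroup Y) : S.IsSubnormal := by
  induction S using WellFoundedGT.induction with
  | ind S ih =>
    by_cases h : S = ⊤
    · subst h
      exact .top
    · have hlt : S < normalizer (S : Set Y) :=
        Group.normalizerCondition_of_isNilpotent S (lt_top_iff_ne_top.2 h)
      exact .step S _ le_normalizer (ih _ hlt) normal_in_normalizer

/-- A subgroup containing `O^p` is subnormal. -/
theorem isSubnormal_of_pResidual_le {p : ℕ} [Fact p.Prime] (M : Subgroup H)
    (hM : pResidual p H ≤ M) : M.IsSubnormal := by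
  have hn : (pResidual p H).Normal := Cfsg.Agent.Lib.Core.Residual.pResidual_normal
  have hp : IsPGroup p (H ⧸ pResidual p H) := Cfsg.Agent.Lib.Core.Residual.pResidual_quotient_isPGroup
  have : Group.IsNilpotent (H ⧸ pResidual p H) := hp.isNilpotent
  have h1 := isSubnormal_of_isNilpotent (M.map (QuotientGroup.mk' (pResidual p H)))
  have h2 := h1.comap (QuotientGroup.mk' (pResidual p H))
  rw [Subgroup.comap_map_eq, QuotientGroup.ker_mk', sup_of_le_left hM] at h2
  exact h2

theorem mem_self_subnormalClosure (A : Subgroup H) :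
    A ≤ subnormalClosure A ∧ (subnormalClosure A).IsSubnormal ∧
      ∀ K : Subgroup H, A ≤ K → K.IsSubnormal → subnormalClosure A ≤ K := by
  let S : Set (Subgroup H) := {K | A ≤ K ∧ K.IsSubnormal}
  have hSfin : S.Finite := Set.toFinite S
  have hSne : S.Nonempty := ⟨⊤, le_top, .top⟩
  obtain ⟨K₀, hK₀⟩ := hSfin.exists_minimal hSne
  have hmin : ∀ K ∈ S, K₀ ≤ K := by
    intro K hK
    have hinf : K₀ ⊓ K ∈ S := ⟨le_inf hK₀.1.1 hK.1, hK₀.1.2.inf hK.2⟩
    have := hK₀.2 hinf inf_le_left
    exact this.trans inf_le_right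
  have heq : subnormalClosure A = K₀ :=
    le_antisymm (sInf_le hK₀.1) (le_sInf fun K hK => hmin K hK)
  rw [heq]
  exact ⟨hK₀.1.1, hK₀.1.2, fun K h1 h2 => hmin K ⟨h1, h2⟩⟩


/-- If `A` is a `p`-subgroup not contained in a proper subnormal subgroup of `X`,
then `[O^p(X), A] = O^p(X)`. -/
theorem commutator_pResidual_eq {X : Type u} [Group X] [Finite X] {p : ℕ} [Fact p.Prime]
    (A : Subgroup X) (hsub : ∀ M : Subgroup X, M.IsSubnormal → A ≤ M → M = ⊤) (hA : IsPGroup p A) :
    ⁅pResidual p X, A⁆ = pResidual p X := by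
  classical
  have hRn : (pResidual p X).Normal := Cfsg.Agent.Lib.Core.Residual.pResidual_normal
  have hsup : A ⊔ pResidual p X = ⊤ :=
    hsub _ (isSubnormal_of_pResidual_le (p := p) _ le_sup_right) le_sup_left
  set E : Subgroup X := ⁅pResidual p X, A⁆ with hE
  have hRnE : pResidual p X ≤ normalizer (E : Set X) :=
    Cfsg.Agent.Lib.LocalEven.CharP.le_normalizer_commutator _ _
  have hAnE : A ≤ normalizer (E : Set X) := by
    have := Cfsg.Agent.Lib.LocalEven.CharP.le_normalizer_commutator A (pResidual p X)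
    rw [hE, Subgroup.commutator_comm]
    exact this
  have hEn : E.Normal := by
    rw [← Subgroup.normalizer_eq_top_iff, eq_top_iff, ← hsup]
    exact sup_le hAnE hRnE
  have hAT : A ≤ normalizer ((A ⊔ E : Subgroup X) : Set X) :=
    (le_sup_left : A ≤ A ⊔ E).trans le_normalizer
  have hRT : pResidual p X ≤ normalizer ((A ⊔ E : Subgroup X) : Set X) := by
    intro r hr
    rw [Cfsg.Agent.Lib.PReduced.RelNorm.mem_normalizer_iff_map]
    have h1 : (A ⊔ E).map (MulAut.conj r).toMonoidHom ≤ A ⊔ E := by
      rw [Subgroup.map_sup]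
      refine sup_le ?_ ?_
      · rintro _ ⟨a, ha, rfl⟩
        have h2 : r * a * r⁻¹ * a⁻¹ ∈ E := Subgroup.commutator_mem_commutator hr ha
        have h3 : r * a * r⁻¹ = (r * a * r⁻¹ * a⁻¹) * a := by group
        show r * a * r⁻¹ ∈ _
        rw [h3]
        exact Subgroup.mul_mem _ ((le_sup_right : E ≤ A ⊔ E) h2) ((le_sup_left : A ≤ A ⊔ E) ha)
      · rintro _ ⟨e, he, rfl⟩
        exact (le_sup_right : E ≤ A ⊔ E) (hEn.conj_mem e he r)
    exact Subgroup.eq_of_le_of_card_ge h1
      (Subgroup.card_map_of_injective (H := X) (K := A ⊔ E) (f := (MulAut.conj r).toMonoidHom)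
        (MulAut.conj r).injective).ge
  have hTn : (A ⊔ E).Normal := by
    rw [← Subgroup.normalizer_eq_top_iff, eq_top_iff, ← hsup]
    exact sup_le hAT hRT
  have hT : A ⊔ E = ⊤ := hsub _ hTn.isSubnormal le_sup_left
  let f := QuotientGroup.mk' E
  have hfA : A.map f = ⊤ := by
    have h1 := congrArg (Subgroup.map f) hT
    rw [Subgroup.map_sup, QuotientGroup.map_mk'_self, sup_bot_eq] at h1
    rw [h1, Subgroup.map_top_of_surjective _ (QuotientGroup.mk'_surjective E)]
  have hp : IsPGroup p (X ⧸ E) := by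
    have h1 : IsPGroup p (A.map f) := hA.map f
    rw [hfA] at h1
    exact h1.of_equiv Subgroup.topEquiv
  have hle : pResidual p X ≤ E := (Cfsg.Agent.Lib.Core.Residual.isPGroup_quotient_iff E).1 hp
  exact le_antisymm (Subgroup.commutator_le_left _ _) hle

end Cfsg.Agent.Lib.PReduced.SubnormalClosure
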